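import Cfsg.Agent.H744.FC.Par

/-!
# S2464, `F₄(q)`: the order of the centralizer of a long root element (for helper520)

* `cls_theta` : `PK` permutes the non-trivial elements of `XT` transitively, through the torus of the node `3`;
* `card_cent_theta` : `|C(u)| = q ^ 24 (q ^ 2 - 1) (q ^ 4 - 1) (q ^ 6 - 1)` for `1 ≠ u ∈ XT`;
* `num_theta` : `2 |C(u)| < q ^ 6 (d₂)²` for `q = 5, 7, 17`.
-/

set_option autoImplicit false
set_option linter.unusedSectionVars false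

namespace Cfsg.Agent.H744.FC

open CoxeterSystem Cfsg.Agent.ChevalleyStructure.CoxeterGeom Cfsg.Agent.Tits.Roots Cfsg.Agent.Tits.Core
  Cfsg.Agent.Tits.Exchange Cfsg.Agent.Nodes.Reps Cfsg.Agent.Nodes.BNOf Cfsg.Agent.Nodes.StabComb
  Cfsg.Agent.Nodes.Bruhat Cfsg.Agent.Nodes.OppDec Cfsg.Agent.Nodes.LeviDec Cfsg.Agent.Nodes.NormX
  Cfsg.Agent.Nodes.Coroot Cfsg.Agent.Nodes.RGDChev Cfsg.Agent.KFacts.RgdPar Cfsg.Agent.KFacts.RgdTI
  Cfsg.Agent.KFacts.RgdCent Cfsg.Agent.KFacts.RgdChevCoord Cfsg.Agent.Nodes.ChevCls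
  Cfsg.Agent.OddHalf.NI.ModelChev Cfsg.Agent.H225.PPow
open Cfsg.Lie Cfsg.Agent.ChevalleyStructure Cfsg.Agent.ChevalleyStructure.Elts
  Cfsg.Agent.ChevalleyStructure.RootVec Cfsg.Agent.ChevalleyStructure.NPerm
  Cfsg.Agent.ChevalleyStructure.CoxeterGeomTypes
open Cfsg.Agent.H701.F43.Cent (hF cF nroots isRoot_theta cart_theta cent comm_theta VV MM J3)
open Cfsg.Agent.H520.FC (PK VK XT d2)

universe u

variable {K : Type u} [Field K]

theorem lt47 : 47 < chevF4.nroots := by rw [nroots]; norm_num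

/-- the torus of the node `3` on `XT` -/
theorem hc_theta (b : Kˣ) (a : K) : hc hF 3 (b : K) * xc hF (vec chevF4 4 47) a * (hc hF 3 (b : K))⁻¹ =
    xc hF (vec chevF4 4 47) ((b : K) * a) := by
  rw [(act hF lt47 (hc_mem hF 3 b.ne_zero)).2 a, ch_hc hF 3 b.ne_zero lt47, cart_theta, zpow_one]

theorem hc_mem_PK (b : Kˣ) : hc hF 3 (b : K) ∈ PK K {k | k ≠ 3} :=
  (le_sup_left : LJ cF hF.isCartan (TT chevF4 K) (XX chevF4 4 K) {k | k ≠ 3} ≤ _)
    ((le_sup_left : TT chevF4 K ≤ _) (hc_mem hF 3 b.ne_zero))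

variable [Finite K]

theorem mem_XT {z : ↥(chevF4.group K)} : z ∈ XT K ↔ ∃ a : K, z = xc hF (vec chevF4 4 47) a := by
  obtain ⟨p, hpc⟩ := CharP.exists K
  have : Fact p.Prime := ⟨CharP.char_is_prime K p⟩
  rw [((coords (K := K) hF cF p).coord _ isRoot_theta).mem z]
  exact ⟨fun ⟨a, h⟩ => ⟨a, h.symm⟩, fun ⟨a, h⟩ => ⟨a, h.symm⟩⟩

theorem xc_zero : xc hF (vec chevF4 4 47) (0 : K) = 1 := by
  obtain ⟨p, hpc⟩ := CharP.exists K
  have : Fact p.Prime := ⟨CharP.char_is_prime K p⟩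
  exact ((coords (K := K) hF cF p).coord _ isRoot_theta).zero

theorem conj_XT {g z : ↥(chevF4.group K)} (hg : g ∈ PK K {k | k ≠ 3}) (hz : z ∈ XT K) : g * z * g⁻¹ ∈ XT K := by
  have hT : TT chevF4 K ≤ Subgroup.normalizer (XT K : Set ↥(chevF4.group K)) := by
    have h1 : ∀ t ∈ TT chevF4 K, ∀ z ∈ XT K, t * z * t⁻¹ ∈ XT K := by
      intro t ht z hz
      obtain ⟨c, rfl⟩ := mem_XT.1 hz
      rw [(act hF lt47 ht).2 c]
      exact mem_XT.2 ⟨_, rfl⟩
    intro t ht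
    rw [Subgroup.mem_normalizer_iff]
    refine fun z => ⟨fun hz => h1 t ht z hz, fun hz => ?_⟩
    have h2 := h1 t⁻¹ (inv_mem ht) _ hz
    rwa [show t⁻¹ * (t * z * t⁻¹) * t⁻¹⁻¹ = z by group] at h2
  have hC : VV K ⊔ MM K ≤ Subgroup.normalizer (XT K : Set ↥(chevF4.group K)) := by
    intro t ht
    rw [Subgroup.mem_normalizer_iff]
    refine fun z => ⟨fun hz => ?_, fun hz => ?_⟩
    · have h1 : t * z * t⁻¹ = z := by rw [comm_theta ht hz, mul_inv_cancel_right]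
      rw [h1]
      exact hz
    · have h1 : t * (t * z * t⁻¹) = (t * z * t⁻¹) * t := comm_theta ht hz
      have h2 : t * z * t⁻¹ = z := by
        have h3 : t * (t * z * t⁻¹) = t * z := by rw [h1]; group
        exact mul_left_cancel h3
      rwa [h2] at hz
  have hP : PK K {k | k ≠ 3} ≤ Subgroup.normalizer (XT K : Set ↥(chevF4.group K)) :=
    sup_le (sup_le hT (le_trans le_sup_right hC)) (le_trans le_sup_left hC)
  exact (Subgroup.mem_normalizer_iff.1 (hP hg) z).1 hz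

theorem cent_le_PK {u : ↥(chevF4.group K)} (hu : u ∈ XT K) (hu1 : u ≠ 1) :
    Subgroup.centralizer ({u} : Set ↥(chevF4.group K)) ≤ PK K {k | k ≠ 3} := by
  obtain ⟨a, rfl⟩ := mem_XT.1 hu
  have ha : a ≠ 0 := by
    rintro rfl
    exact hu1 xc_zero
  intro g hg
  obtain ⟨v, hv, m, hm, rfl⟩ := cent ha (Subgroup.mem_centralizer_singleton_iff.1 hg)
  exact mul_mem ((le_sup_right : VJ cF hF.isCartan (XX chevF4 4 K) {k | k ≠ 3} ≤ PK K {k | k ≠ 3}) hv)
    ((le_sup_left : LJ cF hF.isCartan (TT chevF4 K) (XX chevF4 4 K) {k | k ≠ 3} ≤ _)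
      ((le_sup_right : MM K ≤ _) hm))

/-- `|P| = (q - 1) |C(u)|` -/
theorem card_mul_cent {u : ↥(chevF4.group K)} (hu : u ∈ XT K) (hu1 : u ≠ 1) :
    (Nat.card K - 1) * Nat.card ↥(Subgroup.centralizer ({u} : Set ↥(chevF4.group K))) =
      Nat.card ↥(PK K {k | k ≠ 3}) := by
  have hle := cent_le_PK hu hu1
  obtain ⟨a, rfl⟩ := mem_XT.1 hu
  have ha : a ≠ 0 := by
    rintro rfl
    exact hu1 xc_zero
  rw [← Nat.card_units K, ← Nat.card_prod]
  refine Nat.card_congr (Equiv.ofBijective (fun x : Kˣ × Subgroup.centralizer {xc hF (vec chevF4 4 47) a} =>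
    (⟨hc hF 3 (x.1 : K) * x.2, mul_mem (hc_mem_PK _) (hle x.2.2)⟩ : ↥(PK K {k | k ≠ 3}))) ⟨?_, ?_⟩)
  · rintro ⟨b, x, hx⟩ ⟨b', x', hx'⟩ h
    have h2 : hc hF 3 (b : K) * x = hc hF 3 (b' : K) * x' := congrArg Subtype.val h
    have k1 := Subgroup.mem_centralizer_singleton_iff.1 hx
    have k2 := Subgroup.mem_centralizer_singleton_iff.1 hx'
    have key : ∀ (b : Kˣ) (x : ↥(chevF4.group K)), x * xc hF (vec chevF4 4 47) a = xc hF (vec chevF4 4 47) a * x →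
        (hc hF 3 (b : K) * x) * xc hF (vec chevF4 4 47) a * (hc hF 3 (b : K) * x)⁻¹ =
          xc hF (vec chevF4 4 47) ((b : K) * a) := by
      intro b x hx
      rw [← hc_theta, mul_assoc (hc hF 3 (b : K)) x, hx]
      group
    have h3 := key b x k1
    rw [h2, key b' x' k2] at h3
    have h4 := mul_right_cancel₀ ha (xc_inj hF lt47 h3)
    obtain rfl : b' = b := Units.ext h4
    have h5 := mul_left_cancel h2
    subst h5
    rfl
  · rintro ⟨g, hg⟩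
    obtain ⟨c, hc'⟩ := mem_XT.1 (conj_XT hg hu)
    have hc0 : c ≠ 0 := by
      rintro rfl
      rw [xc_zero, mul_inv_eq_one] at hc'
      exact hu1 (mul_left_cancel (hc'.trans (mul_one g).symm))
    refine ⟨(Units.mk0 (c / a) (div_ne_zero hc0 ha), ⟨(hc hF 3 (c / a))⁻¹ * g, ?_⟩), ?_⟩
    · rw [Subgroup.mem_centralizer_singleton_iff]
      have h1 := hc_theta (Units.mk0 (c / a) (div_ne_zero hc0 ha)) a
      rw [Units.val_mk0, div_mul_cancel₀ _ ha, ← hc'] at h1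
      have h2 : g * xc hF (vec chevF4 4 47) a = (hc hF 3 (c / a) * xc hF (vec chevF4 4 47) a * (hc hF 3 (c / a))⁻¹) * g := by
        rw [h1]; group
      rw [mul_assoc, h2]
      group
    · apply Subtype.ext
      show hc hF 3 (c / a) * ((hc hF 3 (c / a))⁻¹ * g) = g
      group

theorem q_ge : 2 ≤ Nat.card K := Finite.one_lt_card

/-- **The order of the centralizer of a long root element.** -/
theorem card_cent_theta {u : ↥(chevF4.group K)} (hu : u ∈ XT K) (hu1 : u ≠ 1) :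
    Nat.card ↥(Subgroup.centralizer ({u} : Set ↥(chevF4.group K))) =
      Nat.card K ^ 24 * (Nat.card K ^ 2 - 1) * (Nat.card K ^ 4 - 1) * (Nat.card K ^ 6 - 1) := by
  have h1 := card_mul_cent hu hu1
  rw [card_ne3] at h1
  obtain ⟨n, hn⟩ : ∃ n, Nat.card K = n + 2 := ⟨Nat.card K - 2, by have := q_ge (K := K); omega⟩
  rw [hn] at h1 ⊢
  have e1 : n + 2 - 1 = n + 1 := rfl
  have e2 : (n + 2) ^ 2 - 1 = (n + 1) * (n + 3) := by
    rw [Nat.sub_eq_iff_eq_add (Nat.one_le_pow _ _ (by omega))]; ring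
  have e4 : (n + 2) ^ 4 - 1 = (n + 1) * ((n + 3) * ((n + 2) ^ 2 + 1)) := by
    rw [Nat.sub_eq_iff_eq_add (Nat.one_le_pow _ _ (by omega))]; ring
  have e6 : (n + 2) ^ 6 - 1 = (n + 1) * ((1 + (n + 2) + (n + 2) ^ 2) * (1 + (n + 2) ^ 3)) := by
    rw [Nat.sub_eq_iff_eq_add (Nat.one_le_pow _ _ (by omega))]; ring
  rw [e1] at h1
  rw [e2, e4, e6]
  apply Nat.eq_of_mul_eq_mul_left (show 0 < n + 1 by omega)
  rw [h1]
  ring

theorem num_theta {q : ℕ} (hq : q = 5 ∨ q = 7 ∨ q = 17) :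
    2 * (q ^ 24 * (q ^ 2 - 1) * (q ^ 4 - 1) * (q ^ 6 - 1)) < q ^ 6 * d2 q ^ 2 := by
  rcases hq with rfl | rfl | rfl <;> norm_num [d2]

theorem num_cent_theta (hq : Nat.card K = 5 ∨ Nat.card K = 7 ∨ Nat.card K = 17) {u : ↥(chevF4.group K)}
    (hu : u ∈ XT K) (hu1 : u ≠ 1) :
    2 * Nat.card ↥(Subgroup.centralizer ({u} : Set ↥(chevF4.group K))) < Nat.card K ^ 6 * d2 (Nat.card K) ^ 2 := by
  rw [card_cent_theta hu hu1]
  exact num_theta hq

end Cfsg.Agent.H744.FC
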